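import Groth.Agent.EtSliceLib.Hpull
import Groth.Agent.EtShLib.RestrPull
import Groth.Agent.EtShLib.FiniteExact
import Groth.Agent.SubmDescLib.QFRefine
import Groth.Agent.TorsBCLib.Generic
import Groth.Agent.SubmDescLib.Sections
import Groth.Agent.EtShLib.Noeth

/-!
# Cohomology of the spectrum of a henselian local ring and of its closed point
-/

set_option autoImplicit false
set_option linter.unusedSectionVars false
set_option linter.style.haveILetI false
set_option backward.isDefEq.respectTransparency false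
set_option backward.isDefEq.respectTransparency.types false
set_option synthInstance.maxHeartbeats 400000
set_option maxHeartbeats 1000000

universe u

open CategoryTheory CategoryTheory.Limits CategoryTheory.Abelian AlgebraicGeometry Opposite
open Groth.Agent.EtShLib EtSliceLib

namespace EtHensLib

noncomputable section

variable (A : Type u) [CommRing A] [HenselianLocalRing A]

/-- The base. -/
abbrev Y : Scheme.{u} := Spec (CommRingCat.of A)

/-- The inclusion of the closed point. -/
abbrev cp : Spec (CommRingCat.of (IsLocalRing.ResidueField A)) ⟶ Y A :=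
  Spec.map (CommRingCat.ofHom (IsLocalRing.residue A))

/-- A geometric point above the closed point of the residue field. -/
abbrev sp : Spec (CommRingCat.of (AlgebraicClosure (IsLocalRing.ResidueField A))) ⟶
    Spec (CommRingCat.of (IsLocalRing.ResidueField A)) :=
  Spec.map (CommRingCat.ofHom (algebraMap _ _))

/-- The geometric closed point. -/
abbrev gp : Spec (CommRingCat.of (AlgebraicClosure (IsLocalRing.ResidueField A))) ⟶ Y A := sp A ≫ cp A

theorem exists_cover (V : (Y A).Etale) (v : Fib (gp A) V) :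
    ∃ (W : (Y A).Etale) (_ : W ⟶ V), IsFinite W.hom ∧ Surjective W.hom := by
  let φ : V.left ⟶ Y A := V.hom
  haveI : AlgebraicGeometry.Etale φ := V.prop
  haveI : LocallyQuasiFinite φ := locallyQuasiFinite_of_etale φ
  have hx : φ v.pt = IsLocalRing.closedPoint A := by
    show φ (v.hom default) = _
    rw [← Scheme.Hom.comp_apply, show v.hom ≫ φ = gp A from v.w, Scheme.Hom.comp_apply]
    exact SubmDescLib.closedPoint_map (IsLocalRing.residue A) IsLocalRing.residue_surjective _
  obtain ⟨R, _, b, r, hb, hr, hrg, hvr⟩ := SubmDescLib.exists_finite_nhd φ v.pt hx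
  haveI := hr
  haveI : AlgebraicGeometry.Etale (r ≫ φ) := inferInstance
  refine ⟨Scheme.Etale.mk (r ≫ φ), MorphismProperty.Over.homMk r rfl, ?_, ?_⟩
  · show IsFinite (r ≫ φ)
    rw [hrg]
    exact (IsFinite.SpecMap_iff (CommRingCat.ofHom b)).2 hb
  · show Surjective (r ≫ φ)
    obtain ⟨a, ha⟩ := hvr
    refine ⟨fun y => ?_⟩
    have hsp : y ⤳ (r ≫ φ).base a := by
      rw [Scheme.Hom.comp_apply, ha, hx]
      exact IsLocalRing.specializes_closedPoint y
    obtain ⟨c, -, hc⟩ := Flat.generalizingMap (r ≫ φ) hsp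
    exact ⟨c, hc⟩

theorem comp_unit_eq_zero {X Y : Scheme.{u}} (π : X ⟶ Y) [IsFinite π] {P G : EtCoh.Ab Y} {m : ℕ}
    (α : Ext.{u + 1} P G m) (hα : Ext.mapExactFunctor (EtCoh.pull π) α = 0) :
    α.comp (Ext.mk₀ ((EtCoh.pullPushAdj π).unit.app G)) (add_zero m) = 0 := by
  haveI : (EtCoh.push π).Additive := { }
  haveI := preservesHomology_push_finite π
  haveI : PreservesFiniteLimits (EtCoh.push π) := Functor.preservesFiniteLimits_of_preservesHomology _
  haveI : PreservesFiniteColimits (EtCoh.push π) := Functor.preservesFiniteColimits_of_preservesHomology _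
  haveI : PreservesFiniteColimits (EtCoh.pull π ⋙ EtCoh.push π) := comp_preservesFiniteColimits _ _
  haveI : PreservesFiniteLimits (EtCoh.pull π ⋙ EtCoh.push π) := comp_preservesFiniteLimits _ _
  have h := DescSecLib.mapExactFunctor_natTrans (F := 𝟭 (EtCoh.Ab Y))
    (G := EtCoh.pull π ⋙ EtCoh.push π) (EtCoh.pullPushAdj π).unit α
  rw [DescSecLib.mapExactFunctor_idFunctor, DescSecLib.mapExactFunctor_compFunctor, hα,
    Ext.mapExactFunctor_zero, Ext.comp_zero] at h
  exact h

variable {A}

theorem exists_kill : ∀ (n : ℕ) (G : EtCoh.Ab (Y A)) (α : EtCoh.H (Y A) G (n + 1)),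
    ∃ W : (Y A).Etale, IsFinite W.hom ∧ Surjective W.hom ∧ (Ext.mk₀ (toConst W)).comp α (zero_add (n + 1)) = 0 := by
  intro n
  induction n with
  | zero =>
    intro G α
    let ip := (EnoughInjectives.presentation G).some
    let S := ShortComplex.mk ip.f (cokernel.π ip.f) (cokernel.condition _)
    have hS : S.ShortExact := { exact := ShortComplex.exact_of_g_is_cokernel _ (cokernelIsCokernel _) }
    haveI : Injective S.X₂ := ip.injective
    obtain ⟨β, rfl⟩ := Ext.covariant_sequence_exact₁ _ hS (n₁ := 0 + 1) α (Ext.eq_zero_of_injective _) (n₀ := 0) rfl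
    obtain ⟨f, rfl⟩ := (Ext.mk₀_bijective _ _).2 β
    let q := (EtCore.gsec (Y A)).map f (DescSecLib.etOneSec (Y A) ⟨1⟩)
    let t : Fib (gp A) (EtCoh.top (Y A)) := Fib.mk (gp A) (Category.comp_id _)
    haveI : Epi S.g := hS.epi_g
    haveI : Epi ((stk (A := AddCommGrpCat.{u + 1}) (gp A)).map S.g) := inferInstance
    obtain ⟨p, hp⟩ := (AddCommGrpCat.epi_iff_surjective _).1 ‹_›
      (germ (A := AddCommGrpCat.{u + 1}) (gp A) S.X₃ _ t q)
    obtain ⟨U, g, v, x, hg, rfl⟩ := exists_germ_below (A := AddCommGrpCat.{u + 1}) (gp A) p _ t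
    rw [germ_natural_apply, ← hg, ← germ_res_apply] at hp
    obtain ⟨V, k, v', -, he⟩ := (germ_eq_iff (gp A) U v _ _).1 hp
    obtain ⟨W, l, hW, hW'⟩ := exists_cover A V v'
    refine ⟨W, hW, hW', ?_⟩
    have e : toConst W ≫ f = desc W (S.X₂.obj.map (l ≫ k).op x) ≫ S.g := by
      refine free_hom_ext W ?_
      show f.hom.app (op W) ((toConst W).hom.app (op W) (gen W)) = S.g.hom.app (op W) ((desc W _).hom.app (op W) (gen W))
      rw [toConst, desc_gen, desc_gen, NatTrans.naturality_apply, NatTrans.naturality_apply, op_comp,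
        Functor.map_comp, ConcreteCategory.comp_apply, he]
      simp only [← ConcreteCategory.comp_apply, ← Functor.map_comp, ← op_comp]
      rw [(EtCore.topIsTerminal (Y A)).hom_ext (l ≫ k ≫ g) ((EtCore.topIsTerminal (Y A)).from W)]
      rfl
    rw [← Ext.comp_assoc_of_second_deg_zero, Ext.mk₀_comp_mk₀, e, ← Ext.mk₀_comp_mk₀,
      Ext.comp_assoc_of_second_deg_zero, hS.comp_extClass, Ext.comp_zero]
  | succ n ih =>
    intro G α
    let ip := (EnoughInjectives.presentation G).some
    let S := ShortComplex.mk ip.f (cokernel.π ip.f) (cokernel.condition _)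
    have hS : S.ShortExact := { exact := ShortComplex.exact_of_g_is_cokernel _ (cokernelIsCokernel _) }
    haveI : Injective S.X₂ := ip.injective
    obtain ⟨β, rfl⟩ := Ext.covariant_sequence_exact₁ _ hS (n₁ := n + 1 + 1) α (Ext.eq_zero_of_injective _)
      (n₀ := n + 1) rfl
    obtain ⟨W, hW, hW', h⟩ := ih S.X₃ β
    refine ⟨W, hW, hW', ?_⟩
    rw [← Ext.comp_assoc _ _ _ (zero_add (n + 1)) _ (by omega), h, Ext.zero_comp]

theorem isZero_stalk_push {W : (Y A).Etale} [IsFinite W.hom] {G : EtCoh.Ab (Y A)}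
    (hG : IsZero ((stk (A := AddCommGrpCat.{u + 1}) (gp A)).obj G)) :
    IsZero ((stk (A := AddCommGrpCat.{u + 1}) (gp A)).obj ((EtCoh.push W.hom).obj ((EtCoh.pull W.hom).obj G))) := by
  obtain ⟨e⟩ := stalk_push_finite W.hom (gp A) ((EtCoh.pull W.hom).obj G)
  refine IsZero.of_iso ?_ e
  refine (IsZero.iff_id_eq_zero _).2 (Sigma.hom_ext _ _ fun ζ => ?_)
  refine IsZero.eq_of_src ?_ _ _
  refine IsZero.of_iso ?_ ((stalkPull W.hom ζ.1 AddCommGrpCat.{u + 1}).app G).symm
  rw [ζ.2]
  exact hG

theorem vanish : ∀ (n : ℕ) (G : EtCoh.Ab (Y A)), IsZero ((stk (A := AddCommGrpCat.{u + 1}) (gp A)).obj G) →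
    ∀ α : EtCoh.H (Y A) G n, α = 0 := by
  intro n
  induction n with
  | zero =>
    intro G hG α
    obtain ⟨f, rfl⟩ := (Ext.mk₀_bijective _ _).2 α
    rw [← Ext.mk₀_zero]
    refine congrArg Ext.mk₀ (DescSecLib.et_ext_Z _ _ ?_)
    let s := (EtCore.gsec (Y A)).map f (DescSecLib.etOneSec (Y A) ⟨1⟩)
    let t : Fib (gp A) (EtCoh.top (Y A)) := Fib.mk (gp A) (Category.comp_id _)
    have h0 : germ (A := AddCommGrpCat.{u + 1}) (gp A) G _ t s = germ (A := AddCommGrpCat.{u + 1}) (gp A) G _ t 0 := by
      haveI := AddCommGrpCat.subsingleton_of_isZero hG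
      exact Subsingleton.elim _ _
    obtain ⟨V, g, v, -, he⟩ := (germ_eq_iff (gp A) (EtCoh.top (Y A)) t s 0).1 h0
    obtain ⟨W, l, -, hW⟩ := exists_cover A V v
    refine res_ext G _ _ fun y => ?_
    obtain ⟨w, hw⟩ := hW.surj y
    refine ⟨W, l ≫ g, ⟨w, ?_⟩, ?_⟩
    · have hl := MorphismProperty.Over.w (l ≫ g)
      exact ((congrArg (fun c => c.base w) ((Category.comp_id _).symm.trans hl) :).trans hw)
    · have h2 := congrArg (G.obj.map l.op) he
      simp only [map_zero] at h2
      rw [op_comp, Functor.map_comp, ConcreteCategory.comp_apply, ConcreteCategory.comp_apply]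
      refine h2.trans ?_
      simp
  | succ n ih =>
    intro G hG α
    obtain ⟨W, hW, hW', hk⟩ := exists_kill n G α
    haveI := hW
    haveI := hW'
    let η := (EtCoh.pullPushAdj W.hom).unit.app G
    haveI : Mono η := by
      haveI : ∀ U, Mono (η.hom.app U) := fun U =>
        (AddCommGrpCat.mono_iff_injective _).2 (unit_injective (A := AddCommGrpCat.{u + 1}) W.hom G U.unop)
      haveI : Mono η.hom := NatTrans.mono_of_mono_app _
      exact (sheafToPresheaf _ _).mono_of_mono_map (‹Mono η.hom›)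
    have hmap : Ext.mapExactFunctor (EtCoh.pull W.hom) α = 0 := by
      have h1 := Hpull_eq_psi W G (n + 1) α
      rw [hk, map_zero] at h1
      have h2 := congrArg (fun z => (Ext.mk₀ (EtCore.pullConst W.hom ℤ).hom).comp z (zero_add (n + 1))) h1
      simp only [Ext.comp_zero] at h2
      change (Ext.mk₀ (EtCore.pullConst W.hom ℤ).hom).comp ((Ext.mk₀ (EtCore.pullConst W.hom ℤ).inv).comp
        (Ext.mapExactFunctor (EtCoh.pull W.hom) α) (zero_add _)) (zero_add _) = 0 at h2
      rwa [← Ext.comp_assoc_of_second_deg_zero, Ext.mk₀_comp_mk₀, Iso.hom_inv_id, Ext.mk₀_id_comp] at h2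
    have hη : α.comp (Ext.mk₀ η) (add_zero (n + 1)) = 0 := comp_unit_eq_zero W.hom α hmap
    have hS : (ShortComplex.mk η (cokernel.π η) (cokernel.condition η)).ShortExact :=
      { exact := ShortComplex.exact_of_g_is_cokernel _ (cokernelIsCokernel _) }
    obtain ⟨β, rfl⟩ := Ext.covariant_sequence_exact₁ _ hS α hη (n₀ := n) rfl
    have hC : IsZero ((stk (A := AddCommGrpCat.{u + 1}) (gp A)).obj (cokernel η)) :=
      IsZero.of_epi ((stk (A := AddCommGrpCat.{u + 1}) (gp A)).map (cokernel.π η)) (isZero_stalk_push hG)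
    rw [ih _ hC β, Ext.zero_comp]

theorem bijective_Hpull [PreservesFiniteLimits (EtCoh.pull (cp A))] (F : EtCoh.Ab (Y A)) (n : ℕ) :
    Function.Bijective (EtCore.Hpull (cp A) F n) := by
  haveI : IsClosedImmersion (cp A) :=
    IsClosedImmersion.spec_of_surjective (CommRingCat.ofHom (IsLocalRing.residue A)) IsLocalRing.residue_surjective
  haveI : (EtCoh.push (cp A)).Additive := { }
  haveI := preservesHomology_push_finite (cp A)
  haveI : PreservesFiniteLimits (EtCoh.push (cp A)) := Functor.preservesFiniteLimits_of_preservesHomology _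
  haveI : PreservesFiniteColimits (EtCoh.push (cp A)) := Functor.preservesFiniteColimits_of_preservesHomology _
  let adj := EtCoh.pullPushAdj (cp A)
  let u := adj.unit.app F
  haveI hu : IsIso ((stk (A := AddCommGrpCat.{u + 1}) (gp A)).map u) := isIso_unit_stalk_closed (cp A) F (sp A)
  let Z := (constantSheaf (Y A).smallEtaleTopology AddCommGrpCat.{u + 1}).obj (AddCommGrpCat.of (ULift.{u + 1} ℤ))
  have hgood : TorsBCLib.Good.{u + 1} Z u := by
    have hK : IsZero ((stk (A := AddCommGrpCat.{u + 1}) (gp A)).obj (kernel u)) := by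
      refine IsZero.of_mono_eq_zero ((stk (A := AddCommGrpCat.{u + 1}) (gp A)).map (kernel.ι u)) ?_
      rw [← cancel_mono ((stk (A := AddCommGrpCat.{u + 1}) (gp A)).map u), ← Functor.map_comp, kernel.condition,
        zero_comp, Functor.map_zero]
    have hC : IsZero ((stk (A := AddCommGrpCat.{u + 1}) (gp A)).obj (cokernel u)) := by
      refine IsZero.of_epi_eq_zero ((stk (A := AddCommGrpCat.{u + 1}) (gp A)).map (cokernel.π u)) ?_
      rw [← cancel_epi ((stk (A := AddCommGrpCat.{u + 1}) (gp A)).map u), ← Functor.map_comp, cokernel.condition,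
        comp_zero, Functor.map_zero]
    have h1 : (ShortComplex.mk (kernel.ι u) (Abelian.factorThruImage u) (by
        rw [← cancel_mono (Abelian.image.ι u)]; simp)).ShortExact :=
      { exact := ShortComplex.exact_of_f_is_kernel _ (KernelFork.IsLimit.ofι _ _
          (fun k hk => kernel.lift u k (by rw [← Abelian.image.fac u, ← Category.assoc, hk, zero_comp]))
          (fun k hk => kernel.lift_ι _ _ _)
          (fun k hk m hm => by rw [← cancel_mono (kernel.ι u)]; simp [hm])) }
    have h2 : (ShortComplex.mk (Abelian.image.ι u) (cokernel.π u) (by simp)).ShortExact :=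
      { exact := ShortComplex.exact_of_f_is_kernel _ (kernelIsKernel _) }
    have g1 := TorsBCLib.good_g h1 (V := Z) (fun j x => vanish j _ hK x)
    have g2 := TorsBCLib.good_f h2 (V := Z) (fun j x => vanish j _ hC x)
    have := TorsBCLib.good_comp g1 g2
    exact (congrArg (TorsBCLib.Good.{u + 1} Z) (Abelian.image.fac u)).mp this
  have hmap : Function.Bijective
      (fun e : Ext.{u + 1} Z F n => Ext.mapExactFunctor (EtCoh.pull (cp A)) e) := by
    have heq : (fun e : Ext.{u + 1} Z F n => Ext.mapExactFunctor (EtCoh.pull (cp A)) e) =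
        TorsBCLib.extAdj adj Z ((EtCoh.pull (cp A)).obj F) n ∘ TorsBCLib.em Z u n := by
      funext e
      rw [Function.comp_apply, TorsBCLib.extAdj_apply, TorsBCLib.em_apply, Ext.mapExactFunctor_comp,
        Ext.mapExactFunctor_mk₀, Ext.comp_assoc_of_second_deg_zero, Ext.mk₀_comp_mk₀,
        show (EtCoh.pull (cp A)).map u ≫ adj.counit.app ((EtCoh.pull (cp A)).obj F) = 𝟙 _ from
          adj.left_triangle_components F, Ext.comp_mk₀_id]
    rw [heq]
    exact (TorsBCLib.extAdj_bijective adj Z n _).comp (hgood n)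
  show Function.Bijective ((fun e => (Ext.mk₀ (EtCore.pullConst (cp A) ℤ).inv).comp e (zero_add n)) ∘
    fun e : Ext.{u + 1} Z F n => Ext.mapExactFunctor (EtCoh.pull (cp A)) e)
  refine Function.Bijective.comp ⟨fun a b h => ?_, fun c =>
    ⟨(Ext.mk₀ (EtCore.pullConst (cp A) ℤ).hom).comp c (zero_add n), ?_⟩⟩ hmap
  · have h2 := congrArg (fun z => (Ext.mk₀ (EtCore.pullConst (cp A) ℤ).hom).comp z (zero_add n)) h
    simpa only [← Ext.comp_assoc_of_second_deg_zero, Ext.mk₀_comp_mk₀, Iso.hom_inv_id, Ext.mk₀_id_comp] using h2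
  · simp only [← Ext.comp_assoc_of_second_deg_zero, Ext.mk₀_comp_mk₀, Iso.inv_hom_id, Ext.mk₀_id_comp]

end

end EtHensLib
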